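import Mathlib
import Groth.Agent.Lib.Helper5.Car.KD3
import Groth.Agent.Lib.Helper7.Reg1
import Groth.Agent.Lib.Helper5.SmTower.A

set_option autoImplicit false
universe u

open TensorProduct IsLocalRing KaehlerDifferential

namespace Groth.Agent.H5.JacDim

/-- a surjection from a Noetherian local domain onto a ring of at least the same dimension is
injective. -/
theorem injective_of_surjective_of_dim_le {B S : Type*} [CommRing B] [IsDomain B]
    [IsNoetherianRing B] [IsLocalRing B] [CommRing S] [Nontrivial S] (g : B →+* S)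
    (hg : Function.Surjective g) (hdim : ringKrullDim B ≤ ringKrullDim S) :
    Function.Injective g := by
  rw [injective_iff_map_eq_zero]
  intro x hx
  by_contra hx0
  have hnzd : x ∈ nonZeroDivisors B := mem_nonZeroDivisors_of_ne_zero hx0
  have h1 := ringKrullDim_quotient_succ_le_of_nonZeroDivisor hnzd
  have hle : Ideal.span {x} ≤ RingHom.ker g := by
    rw [Ideal.span_le]
    intro y hy
    rw [Set.mem_singleton_iff] at hy
    rw [hy]
    exact hx
  have h2 : ringKrullDim S ≤ ringKrullDim (B ⧸ Ideal.span {x}) :=
    ringKrullDim_le_of_surjective (Ideal.Quotient.lift (Ideal.span {x}) g (fun a ha => hle ha))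
      (Ideal.Quotient.lift_surjective_of_surjective _ _ hg)
  have h3 : ringKrullDim S + 1 ≤ ringKrullDim S :=
    (add_le_add_left h2 1).trans (h1.trans hdim)
  have htop : ringKrullDim S ≠ ⊤ := by
    intro h
    have h4 : ringKrullDim (B ⧸ Ideal.span {x}) = ⊤ := top_le_iff.mp (h ▸ h2)
    have h5 : ringKrullDim (B ⧸ Ideal.span {x}) ≤ ringKrullDim B :=
      ringKrullDim_le_of_surjective _ Ideal.Quotient.mk_surjective
    rw [h4] at h5
    exact ringKrullDim_ne_top (top_le_iff.mp h5)
  have hbot : ringKrullDim S ≠ ⊥ := by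
    have := ringKrullDim_nonneg_of_nontrivial (R := S)
    intro h
    rw [h] at this
    simp at this
  obtain ⟨n, hn⟩ : ∃ n : ℕ, ringKrullDim S = n := by
    cases h : ringKrullDim S with
    | bot => exact absurd h hbot
    | coe a =>
      cases a with
      | top => exact absurd h htop
      | coe n => exact ⟨n, rfl⟩
  rw [hn] at h3
  have : ((n + 1 : ℕ) : WithBot ℕ∞) ≤ (n : ℕ) := by exact_mod_cast h3
  have : n + 1 ≤ n := by exact_mod_cast this
  omega


theorem exists_nat_ringKrullDim (R : Type*) [CommRing R] [IsNoetherianRing R] [IsLocalRing R] :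
    ∃ n : ℕ, ringKrullDim R = n := by
  have htop : ringKrullDim R ≠ ⊤ := ringKrullDim_ne_top
  have hbot : ringKrullDim R ≠ ⊥ := by
    have := ringKrullDim_nonneg_of_nontrivial (R := R)
    intro h
    rw [h] at this
    simp at this
  cases h : ringKrullDim R with
  | bot => exact absurd h hbot
  | coe a =>
    cases a with
    | top => exact absurd h htop
    | coe n => exact ⟨n, rfl⟩

section lemmaE
variable (k B K : Type u) [Field k] [CommRing B] [IsLocalRing B] [IsNoetherianRing B]
  [Algebra k B] [Algebra.FormallySmooth k B] [Algebra.EssFiniteType k B] [Field K] [Algebra B K]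

theorem dim_le_of_formallySmooth (h₃ : maximalIdeal B ≤ RingHom.ker (algebraMap B K)) :
    ringKrullDim B ≤ (Module.finrank K (K ⊗[B] Ω[B⁄k]) : WithBot ℕ∞) := by
  let f : ResidueField B →ₐ[B] K := Ideal.Quotient.liftₐ _ (Algebra.ofId _ _) h₃
  letI := f.toAlgebra
  haveI : IsScalarTower B (ResidueField B) K := IsScalarTower.of_algebraMap_eq' f.comp_algebraMap.symm
  obtain ⟨n, hn⟩ := exists_nat_ringKrullDim B
  haveI : Algebra.EssFiniteType k (ResidueField B) := Algebra.EssFiniteType.comp k B _
  obtain ⟨hfin, hrk⟩ := Groth.Agent.H5.KD.finrank_residue_tensor_kaehler (k := k) (A := B)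
    (Groth.Agent.H5.GR.isAdicFormallySmooth_of_formallySmooth k B _) n hn
  have e : K ⊗[ResidueField B] (ResidueField B ⊗[B] Ω[B⁄k]) ≃ₗ[K] K ⊗[B] Ω[B⁄k] :=
    AlgebraTensorModule.cancelBaseChange B (ResidueField B) K K Ω[B⁄k]
  rw [← e.finrank_eq, Module.finrank_baseChange, hrk, hn]
  exact_mod_cast Nat.le_add_right _ _

end lemmaE

section lemmaA
variable (k P S K : Type u) [Field k] [CommRing P] [Algebra k P] [CommRing S] [Algebra k S]
  [Algebra P S] [IsScalarTower k P S] [Field K] [Algebra S K] [Algebra P K] [IsScalarTower P S K]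
  [Module.Free P Ω[P⁄k]] [Module.Finite P Ω[P⁄k]]

/-- the span of the differentials of the kernel in `K ⊗ Ω_P`. -/
noncomputable def W : Submodule K (K ⊗[P] Ω[P⁄k]) :=
  Submodule.span K ((fun x : P => (1 : K) ⊗ₜ[P] D k P x) '' (RingHom.ker (algebraMap P S) : Set P))

theorem finrank_W_add (hsurj : Function.Surjective (algebraMap P S)) :
    Module.finrank K (W k P S K) + Module.finrank K (K ⊗[S] Ω[S⁄k]) =
      Module.finrank P Ω[P⁄k] := by
  haveI : Nontrivial S := (algebraMap S K).domain_nontrivial
  haveI : Nontrivial P := (algebraMap P S).domain_nontrivial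
  let E : Algebra.Extension.{u} k S :=
    { Ring := P, σ := _, algebraMap_σ := Function.surjInv_eq hsurj }
  let α : K ⊗[S] E.Cotangent →ₗ[K] K ⊗[S] E.CotangentSpace := E.cotangentComplex.baseChange K
  let β : K ⊗[S] E.CotangentSpace →ₗ[K] K ⊗[S] Ω[S⁄k] := E.toKaehler.baseChange K
  have hex : Function.Exact α β :=
    lTensor_exact K E.exact_cotangentComplex_toKaehler E.toKaehler_surjective
  have hβ : Function.Surjective β := LinearMap.lTensor_surjective K E.toKaehler_surjective
  let e : K ⊗[S] E.CotangentSpace ≃ₗ[K] K ⊗[P] Ω[P⁄k] :=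
    AlgebraTensorModule.cancelBaseChange P S K K Ω[P⁄k]
  -- range α
  have hrange : (LinearMap.range α).map e.toLinearMap = W k P S K := by
    have hX : (⊤ : Submodule K (K ⊗[S] E.Cotangent)) =
        Submodule.span K (Set.range fun x : E.ker =>
          (1 : K) ⊗ₜ[S] Algebra.Extension.Cotangent.mk x) := by
      rw [eq_comm, eq_top_iff]
      rintro y -
      induction y using TensorProduct.induction_on with
      | zero => exact zero_mem _
      | tmul a m =>
        obtain ⟨x, rfl⟩ := Algebra.Extension.Cotangent.mk_surjective m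
        have : a ⊗ₜ[S] Algebra.Extension.Cotangent.mk x =
            a • ((1 : K) ⊗ₜ[S] Algebra.Extension.Cotangent.mk x) := by
          rw [TensorProduct.smul_tmul', smul_eq_mul, mul_one]
        rw [this]
        exact Submodule.smul_mem _ _ (Submodule.subset_span ⟨x, rfl⟩)
      | add x y hx hy => exact add_mem hx hy
    have hα : ∀ x : E.ker, e (α ((1 : K) ⊗ₜ[S] Algebra.Extension.Cotangent.mk x)) =
        (1 : K) ⊗ₜ[P] D k P (x : P) := by
      intro x
      show e ((1 : K) ⊗ₜ[S] E.cotangentComplex (Algebra.Extension.Cotangent.mk x)) = _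
      rw [Algebra.Extension.cotangentComplex_mk]
      show (AlgebraTensorModule.cancelBaseChange P S K K Ω[P⁄k])
        ((1 : K) ⊗ₜ[S] ((1 : S) ⊗ₜ[P] D k P (x : P))) = _
      rw [AlgebraTensorModule.cancelBaseChange_tmul, one_smul]
    rw [LinearMap.range_eq_map, hX, Submodule.map_span, Submodule.map_span, W]
    congr 1
    ext v
    simp only [Set.mem_image, Set.mem_range, exists_exists_eq_and]
    constructor
    · rintro ⟨x, rfl⟩
      exact ⟨x.1, x.2, (hα x).symm⟩
    · rintro ⟨x, hx, rfl⟩
      exact ⟨⟨x, hx⟩, hα ⟨x, hx⟩⟩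
  have h1 : Module.finrank K (W k P S K) = Module.finrank K (LinearMap.range α) := by
    rw [← hrange]
    exact LinearEquiv.finrank_map_eq e _
  have h2 := LinearMap.finrank_range_add_finrank_ker β
  rw [LinearMap.range_eq_top.mpr hβ, finrank_top, LinearMap.exact_iff.mp hex] at h2
  have h3 : Module.finrank K (K ⊗[S] E.CotangentSpace) = Module.finrank P Ω[P⁄k] := by
    rw [Module.finrank_baseChange]
    exact Module.finrank_baseChange
  rw [h1, add_comm, h2, h3]

end lemmaA


section lemmaB
variable (k P K : Type u) [Field k] [CommRing P] [Algebra k P] [Field K] [Algebra P K]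

/-- the span of differentials of an ideal killed in `K` is spanned by differentials of generators. -/
theorem span_D_eq {ι : Type*} (J : Ideal P) (f : ι → P) (hJ : J = Ideal.span (Set.range f))
    (hK : ∀ x ∈ J, algebraMap P K x = 0) :
    Submodule.span K ((fun x : P => (1 : K) ⊗ₜ[P] D k P x) '' (J : Set P)) =
      Submodule.span K (Set.range fun i => (1 : K) ⊗ₜ[P] D k P (f i)) := by
  apply le_antisymm
  · rw [Submodule.span_le]
    rintro _ ⟨x, hx, rfl⟩
    have hx' : x ∈ Ideal.span (Set.range f) := hJ ▸ hx
    show (1 : K) ⊗ₜ[P] D k P x ∈ _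
    clear hx
    induction hx' using Submodule.span_induction with
    | mem y hy =>
      obtain ⟨i, rfl⟩ := hy
      exact Submodule.subset_span ⟨i, rfl⟩
    | zero => simp
    | add y z _ _ hy hz =>
      rw [map_add, TensorProduct.tmul_add]
      exact add_mem hy hz
    | smul a y hy hy' =>
      have hyJ : y ∈ J := hJ ▸ hy
      rw [smul_eq_mul, Derivation.leibniz, TensorProduct.tmul_add]
      refine add_mem ?_ ?_
      · have : (1 : K) ⊗ₜ[P] (a • D k P y) = algebraMap P K a • ((1 : K) ⊗ₜ[P] D k P y) := by
          rw [TensorProduct.tmul_smul, algebraMap_smul]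
        rw [this]
        exact Submodule.smul_mem _ _ hy'
      · have : (1 : K) ⊗ₜ[P] (y • D k P a) = 0 := by
          rw [← TensorProduct.smul_tmul, Algebra.smul_def, hK y hyJ, zero_mul,
            TensorProduct.zero_tmul]
        rw [this]
        exact zero_mem _
  · rw [Submodule.span_le]
    rintro _ ⟨i, rfl⟩
    refine Submodule.subset_span ⟨f i, ?_, rfl⟩
    rw [hJ]
    exact Ideal.subset_span ⟨i, rfl⟩

end lemmaB

section lemmaC

/-- a linear map sending a spanning family to a linearly independent one is injective. -/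
theorem injective_of_span_of_linearIndependent {K X V ι : Type*} [Field K] [AddCommGroup X]
    [Module K X] [AddCommGroup V] [Module K V] [Fintype ι] (Φ : X →ₗ[K] V) (u : ι → X)
    (hu : Submodule.span K (Set.range u) = ⊤) (hli : LinearIndependent K (fun i => Φ (u i))) :
    Function.Injective Φ := by
  rw [injective_iff_map_eq_zero]
  intro x hx
  have hx' : x ∈ Submodule.span K (Set.range u) := hu ▸ Submodule.mem_top
  obtain ⟨c, rfl⟩ := (Submodule.mem_span_range_iff_exists_fun K).mp hx'
  rw [map_sum] at hx
  simp only [map_smul] at hx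
  have hc := Fintype.linearIndependent_iff.mp hli c hx
  simp [hc]

end lemmaC


section lemmaD
variable (k P B K : Type u) [Field k] [CommRing P] [Algebra k P]
  [Algebra.FormallySmooth k P] [Module.Free P Ω[P⁄k]] [Module.Finite P Ω[P⁄k]]
  [CommRing B] [IsLocalRing B] [Algebra k B] [Algebra P B] [IsScalarTower k P B]
  [Field K] [Algebra B K] [Algebra P K] [IsScalarTower P B K]

theorem formallySmooth_of_linearIndependent {ι : Type*} [Fintype ι] (f : ι → P)
    (hsurj : Function.Surjective (algebraMap P B))
    (hker : RingHom.ker (algebraMap P B) = Ideal.span (Set.range f))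
    (h₃ : maximalIdeal B ≤ RingHom.ker (algebraMap B K))
    (hli : LinearIndependent K (fun i => (1 : K) ⊗ₜ[P] D k P (f i))) :
    Algebra.FormallySmooth k B ∧
      Module.finrank K (K ⊗[B] Ω[B⁄k]) + Fintype.card ι = Module.finrank P Ω[P⁄k] := by
  have hmem : ∀ i, f i ∈ RingHom.ker (algebraMap P B) := fun i => by
    rw [hker]; exact Ideal.subset_span ⟨i, rfl⟩
  have h₂ : (RingHom.ker (algebraMap P B)).FG := by
    rw [hker]
    exact Submodule.fg_span (Set.finite_range f)
  constructor
  · rw [Algebra.FormallySmooth.iff_injective_cotangentComplexBaseChange P K hsurj h₂ h₃]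
    let g : ι → RingHom.ker (algebraMap P B) := fun i => ⟨f i, hmem i⟩
    have hg : (⊤ : Submodule P (RingHom.ker (algebraMap P B))) = Submodule.span P (Set.range g) := by
      apply Submodule.map_injective_of_injective (Submodule.subtype_injective _)
      rw [Submodule.map_subtype_top, Submodule.map_span, ← Set.range_comp]
      exact hker
    have key : ∀ x : RingHom.ker (algebraMap P B), (1 : K) ⊗ₜ[P] x ∈
        Submodule.span K (Set.range fun i => (1 : K) ⊗ₜ[P] g i) := by
      intro x
      have hx : x ∈ Submodule.span P (Set.range g) := hg ▸ Submodule.mem_top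
      induction hx using Submodule.span_induction with
      | mem y hy =>
        obtain ⟨i, rfl⟩ := hy
        exact Submodule.subset_span ⟨i, rfl⟩
      | zero => simp
      | add y z _ _ hy hz =>
        rw [TensorProduct.tmul_add]
        exact add_mem hy hz
      | smul c y _ hy =>
        have : (1 : K) ⊗ₜ[P] (c • y) = algebraMap P K c • ((1 : K) ⊗ₜ[P] y) := by
          rw [TensorProduct.tmul_smul, algebraMap_smul]
        rw [this]
        exact Submodule.smul_mem _ _ hy
    refine injective_of_span_of_linearIndependent _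
      (fun i => (1 : K) ⊗ₜ[P] g i) ?_ ?_
    · rw [eq_top_iff]
      rintro y -
      induction y using TensorProduct.induction_on with
      | zero => exact zero_mem _
      | add x y hx hy => exact add_mem hx hy
      | tmul a x =>
        have : a ⊗ₜ[P] x = a • ((1 : K) ⊗ₜ[P] x) := by
          rw [TensorProduct.smul_tmul', smul_eq_mul, mul_one]
        rw [this]
        exact Submodule.smul_mem _ _ (key x)
    · have hfun : (fun i => (KaehlerDifferential.cotangentComplexBaseChange k B P K)
          ((1 : K) ⊗ₜ[P] g i)) = fun i => (1 : K) ⊗ₜ[P] D k P (f i) := by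
        funext i
        rw [KaehlerDifferential.cotangentComplexBaseChange_tmul, one_smul,
          KaehlerDifferential.kerToTensor_apply]
      rw [hfun]
      exact hli
  · have h1 := finrank_W_add k P B K hsurj
    have hK : ∀ x ∈ RingHom.ker (algebraMap P B), algebraMap P K x = 0 := by
      intro x hx
      rw [IsScalarTower.algebraMap_apply P B K, (RingHom.mem_ker).mp hx, map_zero]
    have h2 : W k P B K = Submodule.span K (Set.range fun i => (1 : K) ⊗ₜ[P] D k P (f i)) :=
      span_D_eq k P K _ f hker hK
    rw [h2, finrank_span_eq_card hli] at h1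
    omega

end lemmaD


section main
variable (k P S : Type u) [Field k] [CommRing P] [IsLocalRing P] [IsNoetherianRing P]
  [Algebra k P] [Algebra.FormallySmooth k P] [Module.Free P Ω[P⁄k]] [Module.Finite P Ω[P⁄k]]
  [Algebra.EssFiniteType k P] [CommRing S] [IsLocalRing S] [Algebra k S] [Algebra P S]
  [IsScalarTower k P S]

/-- **Jacobian criterion with dimension**: a local quotient `S` of a formally smooth local
`k`-algebra `P` is formally smooth as soon as `dim S ≥ dim_κ (κ ⊗ Ω_{S/k})`. -/
theorem formallySmooth_of_dim (hsurj : Function.Surjective (algebraMap P S))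
    (hdim : (Module.finrank (ResidueField S) (ResidueField S ⊗[S] Ω[S⁄k]) : WithBot ℕ∞) ≤
      ringKrullDim S) : Algebra.FormallySmooth k S := by
  classical
  set K := ResidueField S with hK
  have hA := finrank_W_add k P S K hsurj
  -- choose a basis of `W` among the differentials
  obtain ⟨b, hbs, hbspan, hbli⟩ := exists_linearIndependent K
    ((fun x : P => (1 : K) ⊗ₜ[P] D k P x) '' (RingHom.ker (algebraMap P S) : Set P))
  haveI : Finite b := (LinearIndependent.setFinite hbli).to_subtype
  haveI : Fintype b := Fintype.ofFinite b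
  have hmem : ∀ v : b, ∃ x : P, x ∈ RingHom.ker (algebraMap P S) ∧ (1 : K) ⊗ₜ[P] D k P x = v :=
    fun v => hbs v.2
  choose f hfker hfv using hmem
  have hli : LinearIndependent K (fun i : b => (1 : K) ⊗ₜ[P] D k P (f i)) := by
    have : (fun i : b => (1 : K) ⊗ₜ[P] D k P (f i)) = fun i : b => (i : K ⊗[P] Ω[P⁄k]) :=
      funext hfv
    rw [this]
    exact hbli
  have hcard : Module.finrank K (W k P S K) = Fintype.card b := by
    rw [W, ← hbspan]
    have := finrank_span_eq_card hbli
    rwa [Subtype.range_coe] at this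
  set J : Ideal P := Ideal.span (Set.range f) with hJ
  have hJle : J ≤ RingHom.ker (algebraMap P S) := by
    rw [hJ, Ideal.span_le]
    rintro _ ⟨i, rfl⟩
    exact hfker i
  -- the intermediate quotient
  letI : Algebra (P ⧸ J) S := (Ideal.Quotient.lift J (algebraMap P S) (fun a ha => hJle ha)).toAlgebra
  haveI : IsScalarTower P (P ⧸ J) S := IsScalarTower.of_algebraMap_eq (fun x => rfl)
  haveI : IsScalarTower k (P ⧸ J) S := IsScalarTower.of_algebraMap_eq (fun x => by
    rw [IsScalarTower.algebraMap_apply k P S, IsScalarTower.algebraMap_apply k P (P ⧸ J)]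
    rfl)
  have hBS : Function.Surjective (algebraMap (P ⧸ J) S) :=
    Ideal.Quotient.lift_surjective_of_surjective _ _ hsurj
  haveI : Nontrivial (P ⧸ J) := (algebraMap (P ⧸ J) S).domain_nontrivial
  haveI : IsLocalRing (P ⧸ J) :=
    IsLocalRing.of_surjective' (algebraMap P (P ⧸ J)) Ideal.Quotient.mk_surjective
  haveI : IsLocalHom (algebraMap (P ⧸ J) S) := IsLocalHom.of_surjective _ hBS
  have h₃ : maximalIdeal (P ⧸ J) ≤ RingHom.ker (algebraMap (P ⧸ J) K) := by
    intro x hx
    rw [RingHom.mem_ker, IsScalarTower.algebraMap_apply (P ⧸ J) S K]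
    exact (residue_eq_zero_iff _).mpr (map_nonunit (algebraMap (P ⧸ J) S) x hx)
  have hkerB : RingHom.ker (algebraMap P (P ⧸ J)) = Ideal.span (Set.range f) := by
    rw [Ideal.Quotient.algebraMap_eq, Ideal.mk_ker]
  obtain ⟨hFS, hrk⟩ := formallySmooth_of_linearIndependent k P (P ⧸ J) K f
    Ideal.Quotient.mk_surjective hkerB h₃ hli
  haveI := hFS
  haveI : Algebra.EssFiniteType k (P ⧸ J) := Algebra.EssFiniteType.comp k P _
  have hdimB := dim_le_of_formallySmooth k (P ⧸ J) K h₃
  have hd : Module.finrank K (K ⊗[P ⧸ J] Ω[(P ⧸ J)⁄k]) = Module.finrank K (K ⊗[S] Ω[S⁄k]) := by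
    omega
  rw [hd] at hdimB
  haveI : IsRegularLocalRing (P ⧸ J) :=
    Groth.Agent.H5.GR.isRegularLocalRing_of_isAdicFormallySmooth k _
      (Groth.Agent.H5.GR.isAdicFormallySmooth_of_formallySmooth k _ _)
  haveI : IsDomain (P ⧸ J) := Groth.Agent.H7.Reg.isDomain _
  have hinj : Function.Injective (algebraMap (P ⧸ J) S) :=
    injective_of_surjective_of_dim_le _ hBS (hdimB.trans hdim)
  let e : (P ⧸ J) ≃ₐ[k] S := AlgEquiv.ofBijective (IsScalarTower.toAlgHom k (P ⧸ J) S) ⟨hinj, hBS⟩
  exact Algebra.FormallySmooth.of_equiv e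

end main


section inst
variable (k : Type u) [Field k] (A : Type u) [CommRing A] [Algebra k A] [Algebra.FiniteType k A]

/-- **Jacobian criterion with dimension** for finite type algebras over a field. -/
theorem formallySmooth_localization_of_dim (q : Ideal A) [q.IsPrime]
    (hdim : (Module.finrank q.ResidueField (q.ResidueField ⊗[A] Ω[A⁄k]) : WithBot ℕ∞) ≤
      ringKrullDim (Localization.AtPrime q)) :
    Algebra.FormallySmooth k (Localization.AtPrime q) := by
  obtain ⟨n, π, hπ⟩ := Algebra.FiniteType.iff_quotient_mvPolynomial''.mp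
    (inferInstance : Algebra.FiniteType k A)
  letI : Algebra (MvPolynomial (Fin n) k) A := π.toAlgebra
  haveI : IsScalarTower k (MvPolynomial (Fin n) k) A :=
    IsScalarTower.of_algebraMap_eq' π.comp_algebraMap.symm
  set M : Ideal (MvPolynomial (Fin n) k) := q.under (MvPolynomial (Fin n) k) with hM
  letI : Algebra (Localization.AtPrime M) (Localization.AtPrime q) :=
    Localization.AtPrime.algebraOfLiesOver M q
  haveI : IsScalarTower k (Localization.AtPrime M) (Localization.AtPrime q) := inferInstance
  have hsurj : Function.Surjective (algebraMap (Localization.AtPrime M) (Localization.AtPrime q)) := by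
    intro y
    obtain ⟨a, s, rfl⟩ := IsLocalization.exists_mk'_eq q.primeCompl y
    obtain ⟨a', rfl⟩ := hπ a
    obtain ⟨s', hs'⟩ := hπ s.1
    have hs'M : s' ∈ M.primeCompl := by
      intro h
      apply s.2
      rw [← hs']
      exact h
    refine ⟨IsLocalization.mk' _ a' ⟨s', hs'M⟩, ?_⟩
    show Localization.localRingHom M q (algebraMap (MvPolynomial (Fin n) k) A) _ _ = _
    rw [Localization.localRingHom_mk']
    congr 1
    exact Subtype.ext hs'
  haveI : IsNoetherianRing (Localization.AtPrime M) :=
    IsLocalization.isNoetherianRing M.primeCompl _ inferInstance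
  haveI : Algebra.FormallySmooth (MvPolynomial (Fin n) k) (Localization.AtPrime M) :=
    Algebra.FormallySmooth.of_isLocalization M.primeCompl
  haveI : Algebra.FormallySmooth k (Localization.AtPrime M) :=
    Algebra.FormallySmooth.comp k (MvPolynomial (Fin n) k) _
  haveI : Algebra.FormallyEtale (MvPolynomial (Fin n) k) (Localization.AtPrime M) :=
    Algebra.FormallyEtale.of_isLocalization M.primeCompl
  let eΩ : Localization.AtPrime M ⊗[MvPolynomial (Fin n) k] Ω[MvPolynomial (Fin n) k⁄k]
      ≃ₗ[Localization.AtPrime M] Ω[Localization.AtPrime M⁄k] :=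
    KaehlerDifferential.tensorKaehlerEquivOfFormallyEtale k (MvPolynomial (Fin n) k) _
  haveI : Module.Free (Localization.AtPrime M) Ω[Localization.AtPrime M⁄k] :=
    Module.Free.of_equiv eΩ
  haveI : Module.Finite (Localization.AtPrime M) Ω[Localization.AtPrime M⁄k] :=
    Module.Finite.equiv eΩ
  haveI : Algebra.EssFiniteType (MvPolynomial (Fin n) k) (Localization.AtPrime M) :=
    Algebra.EssFiniteType.of_isLocalization _ M.primeCompl
  haveI : Algebra.EssFiniteType k (Localization.AtPrime M) :=
    Algebra.EssFiniteType.comp k (MvPolynomial (Fin n) k) _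
  apply formallySmooth_of_dim k (Localization.AtPrime M) (Localization.AtPrime q) hsurj
  rw [← (Groth.Agent.H5.SmTower.e₂ k A q).finrank_eq]
  exact hdim

end inst

end Groth.Agent.H5.JacDim
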